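import Mathlib.RingTheory.Flat.Basic
import Mathlib.RingTheory.TensorProduct.Basic
import Mathlib.LinearAlgebra.TensorProduct.Tower
import Mathlib.LinearAlgebra.TensorProduct.RightExactness

/-!
# Coalgebras for extension of scalars along a flat map are extended
-/

universe u

open TensorProduct

namespace Groth.Agent.ModDesc12

variable {R S N : Type u} [CommRing R] [CommRing S] [Algebra R S] [AddCommGroup N] [Module R N]
  [Module S N] [IsScalarTower R S N]

/-- `n ↦ 1 ⊗ n`. -/
noncomputable def ι : N →ₗ[R] S ⊗[R] N := TensorProduct.mk R S N 1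

/-- The fixed submodule of a coaction. -/
noncomputable def fixed (ρ : N →ₗ[S] S ⊗[R] N) : Submodule R N :=
  LinearMap.ker (ρ.restrictScalars R - ι)

theorem mem_fixed (ρ : N →ₗ[S] S ⊗[R] N) (n : N) : n ∈ fixed ρ ↔ ρ n = 1 ⊗ₜ n := by
  simp [fixed, ι, sub_eq_zero]

/-- Multiplication `S ⊗ M → N`. -/
noncomputable def mult (M : Submodule R N) : S ⊗[R] M →ₗ[S] N :=
  let h : S →ₗ[S] (M →ₗ[R] N) := LinearMap.flip (LinearMap.lsmul S (M →ₗ[R] N)) M.subtype
  AlgebraTensorModule.lift h

@[simp] theorem mult_tmul (M : Submodule R N) (s : S) (m : M) : mult M (s ⊗ₜ m) = s • (m : N) := by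
  simp [mult]

/-- Multiplication `S ⊗ N → N`. -/
noncomputable def mulMap : S ⊗[R] N →ₗ[S] N :=
  let h : S →ₗ[S] (N →ₗ[R] N) := LinearMap.flip (LinearMap.lsmul S (N →ₗ[R] N)) LinearMap.id
  AlgebraTensorModule.lift h

@[simp] theorem mulMap_tmul (s : S) (n : N) : mulMap (R := R) (s ⊗ₜ[R] n) = s • n := by
  simp [mulMap]

theorem bijective_mult [Module.Flat R S] (ρ : N →ₗ[S] S ⊗[R] N)
    (hε : ∀ n, mulMap (R := R) (S := S) (N := N) (ρ n) = n)
    (hc : ∀ n, LinearMap.lTensor S (ρ.restrictScalars R) (ρ n) = LinearMap.lTensor S ι (ρ n)) :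
    Function.Bijective (mult (S := S) (fixed ρ)) := by
  let M := fixed ρ
  let μ' := mulMap (R := R) (S := S) (N := N)
  have hμ : ∀ z : S ⊗[R] M, μ' (M.subtype.lTensor S z) = mult M z := fun z => by
    induction z with
    | zero => simp
    | tmul s m => simp [μ']
    | add a b ha hb => simp [ha, hb]
  have hρ : ∀ z : S ⊗[R] M, ρ (mult M z) = M.subtype.lTensor S z := fun z => by
    induction z with
    | zero => simp
    | tmul s m => rw [mult_tmul, map_smul, (mem_fixed ρ m).1 m.2, smul_tmul']; simp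
    | add a b ha hb => simp [ha, hb]
  refine ⟨fun a b hab => Module.Flat.lTensor_preserves_injective_linearMap M.subtype
    M.injective_subtype ?_, fun n => ?_⟩
  · rw [← hρ, ← hρ, hab]
  · let d : N →ₗ[R] S ⊗[R] N := ρ.restrictScalars R - ι
    have hex : Function.Exact M.subtype d := fun y => by
      rw [Submodule.coe_subtype, Subtype.range_coe_subtype]
      exact Iff.rfl
    obtain ⟨z, hz⟩ := (Module.Flat.lTensor_exact S hex (ρ n)).1 (by
      simp only [d]
      rw [LinearMap.lTensor_sub, LinearMap.sub_apply, hc, sub_self])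
    exact ⟨z, by rw [← hμ, hz]; exact hε n⟩

section Action

variable (R S N) (B : Type u) [CommRing B] [Algebra R B]

/-- The action of `B ⊗ S` on `B ⊗ N`. -/
noncomputable def act : B ⊗[R] S →ₐ[R] Module.End R (B ⊗[R] N) :=
  Algebra.TensorProduct.lift
    ((Module.End.rTensorAlgHom R B N).comp (Algebra.lmul R B))
    ((Module.End.lTensorAlgHom R N B).comp (Algebra.lsmul R R N))
    (fun x y => LinearMap.ext fun z => by
      induction z with
      | zero => simp
      | tmul b n => rfl
      | add a b ha hb => simp only [map_add, ha, hb])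

@[simp] theorem act_tmul (β b : B) (t : S) (n : N) :
    act R S N B (β ⊗ₜ t) (b ⊗ₜ n) = (β * b) ⊗ₜ (t • n) := by
  simp only [act]
  rfl

end Action

end Groth.Agent.ModDesc12
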