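import Groth.Agent.Lib.ModDesc12.Alg
import Mathlib.Algebra.Module.CharacterModule
import Mathlib.LinearAlgebra.Quotient.Basic

/-!
# Coalgebras along universally injective maps are extended
-/

universe u

open TensorProduct

namespace Groth.Agent.ModDesc12

variable {R S : Type u} [CommRing R] [CommRing S] [Algebra R S]

/-- A retraction of the dual of `R → S`. -/
structure DualRetraction (R S : Type u) [CommRing R] [CommRing S] [Algebra R S] where
  σ : CharacterModule R →ₗ[R] CharacterModule S
  σ_algebraMap : ∀ φ r, σ φ (algebraMap R S r) = φ r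

theorem nonempty_dualRetraction
    (h : ∀ (P : Type u) [AddCommGroup P] [Module R P], Function.Injective (fun x : P => (1 : S) ⊗ₜ[R] x)) :
    Nonempty (DualRetraction R S) := by
  let i : CharacterModule R →ₗ[R] S ⊗[R] CharacterModule R := TensorProduct.mk R S _ 1
  obtain ⟨P, hP⟩ := CharacterModule.dual_surjective_of_injective i (h _)
    (AddMonoidHom.mk' (fun φ : CharacterModule R => φ 1) fun _ _ => rfl)
  have hP' : ∀ φ : CharacterModule R, P ((1 : S) ⊗ₜ[R] φ) = φ 1 := fun φ => DFunLike.congr_fun hP φ
  refine ⟨{ σ := ?_, σ_algebraMap := ?_ }⟩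
  · exact
      { toFun := fun φ => AddMonoidHom.mk' (fun s => P (s ⊗ₜ[R] φ)) fun s t => by rw [add_tmul, map_add]
        map_add' := fun φ ψ => DFunLike.ext _ _ fun s => by
          show P (s ⊗ₜ[R] (φ + ψ)) = P (s ⊗ₜ[R] φ) + P (s ⊗ₜ[R] ψ)
          rw [tmul_add, map_add]
        map_smul' := fun r φ => DFunLike.ext _ _ fun s => by
          show P (s ⊗ₜ[R] (r • φ)) = P ((r • s) ⊗ₜ[R] φ)
          rw [smul_tmul] }
  · intro φ r
    show P (algebraMap R S r ⊗ₜ[R] φ) = φ r
    rw [Algebra.algebraMap_eq_smul_one, smul_tmul, hP', CharacterModule.smul_apply, smul_eq_mul, mul_one]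

section

variable (T : DualRetraction R S)
variable {X Y : Type u} [AddCommGroup X] [Module R X] [AddCommGroup Y] [Module R Y]

/-- `r ↦ φ (r x)`. -/
def ev (φ : CharacterModule X) (x : X) : CharacterModule R :=
  AddMonoidHom.mk' (fun r => φ (r • x)) fun a b => by rw [add_smul, map_add]

/-- The natural retraction on duals, pointwise. -/
noncomputable def retr0 (φ : CharacterModule X) : CharacterModule (S ⊗[R] X) :=
  TensorProduct.liftAddHom
      (AddMonoidHom.mk' (fun s => AddMonoidHom.mk' (fun x => T.σ (ev φ x) s) fun x y => by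
          rw [show ev (R := R) φ (x + y) = ev φ x + ev φ y from DFunLike.ext _ _ fun r => by
            show φ (r • (x + y)) = φ (r • x) + φ (r • y); rw [smul_add, map_add], map_add]
          rfl)
        fun s t => AddMonoidHom.ext fun x => map_add (T.σ (ev φ x)) s t)
      fun r s x => by
        show T.σ (ev φ x) (r • s) = T.σ (ev φ (r • x)) s
        rw [show ev (R := R) φ (r • x) = r • ev φ x from DFunLike.ext _ _ fun a => by
          show φ (a • r • x) = φ ((r • a) • x); rw [smul_smul, smul_eq_mul, mul_comm], T.σ.map_smul,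
          CharacterModule.smul_apply]

/-- The natural retraction on duals. -/
noncomputable def retr : CharacterModule X →+ CharacterModule (S ⊗[R] X) :=
  AddMonoidHom.mk' (retr0 T) fun φ ψ => DFunLike.ext _ _ fun z => by
    show retr0 T (φ + ψ) z = retr0 T φ z + retr0 T ψ z
    induction z with
    | zero => simp only [map_zero, add_zero]
    | add a b ha hb => simp only [map_add, ha, hb]; abel
    | tmul s x =>
      show T.σ (ev (φ + ψ) x) s = T.σ (ev φ x) s + T.σ (ev ψ x) s
      rw [show ev (R := R) (φ + ψ) x = ev φ x + ev ψ x from DFunLike.ext _ _ fun r => rfl, map_add]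
      rfl

theorem retr_tmul (φ : CharacterModule X) (s : S) (x : X) :
    retr T φ (s ⊗ₜ x) = T.σ (ev φ x) s := rfl

theorem retr_one (φ : CharacterModule X) (x : X) : retr T φ ((1 : S) ⊗ₜ x) = φ x := by
  rw [retr_tmul, ← map_one (algebraMap R S), T.σ_algebraMap]
  show φ ((1 : R) • x) = φ x
  rw [one_smul]

theorem retr_nat (f : X →ₗ[R] Y) (φ : CharacterModule Y) (z : S ⊗[R] X) :
    retr T (CharacterModule.dual f φ) z = retr T φ (f.lTensor S z) := by
  induction z with
  | zero => simp
  | add a b ha hb => simp only [map_add, ha, hb]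
  | tmul s x =>
    rw [LinearMap.lTensor_tmul, retr_tmul, retr_tmul]
    congr 2
    refine DFunLike.ext _ _ fun r => ?_
    show φ (f (r • x)) = φ (r • f x)
    rw [f.map_smul]

end

variable {N : Type u} [AddCommGroup N] [Module R N] [Module S N] [IsScalarTower R S N]

theorem exists_dual_of_kills {P : Type u} [AddCommGroup P] [Module R P] (d : N →ₗ[R] P)
    (g : CharacterModule N) (hg : ∀ n, d n = 0 → g n = 0) :
    ∃ h : CharacterModule P, ∀ n, h (d n) = g n := by
  let K := LinearMap.ker d
  let g' : CharacterModule (N ⧸ K) := QuotientAddGroup.lift K.toAddSubgroup g fun n hn => hg n hn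
  obtain ⟨h, hh⟩ := CharacterModule.dual_surjective_of_injective (K.liftQ d le_rfl)
    (LinearMap.ker_eq_bot.1 (Submodule.ker_liftQ_eq_bot K d le_rfl le_rfl)) g'
  exact ⟨h, fun n => DFunLike.congr_fun hh (Submodule.Quotient.mk n)⟩

theorem bijective_mult_of_retraction (T : DualRetraction R S) (ρ : N →ₗ[S] S ⊗[R] N)
    (hε : ∀ n, mulMap (R := R) (S := S) (N := N) (ρ n) = n)
    (hc : ∀ n, LinearMap.lTensor S (ρ.restrictScalars R) (ρ n) = LinearMap.lTensor S ι (ρ n)) :
    Function.Bijective (mult (S := S) (fixed ρ)) := by
  let M := fixed ρ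
  let d : N →ₗ[R] S ⊗[R] N := ρ.restrictScalars R - ι
  let e : CharacterModule N →+ CharacterModule N :=
    AddMonoidHom.mk' (fun g => CharacterModule.dual (ρ.restrictScalars R) (retr T g))
      fun g g' => by rw [map_add, map_add]
  have he : ∀ g n, e g n = retr T g (ρ n) := fun _ _ => rfl
  have hed : ∀ ψ : CharacterModule (S ⊗[R] N), ∀ n, e (CharacterModule.dual d ψ) n = 0 := fun ψ n => by
    rw [he, retr_nat T d ψ (ρ n)]
    simp only [d, LinearMap.lTensor_sub, LinearMap.sub_apply, hc, sub_self, map_zero]
  have hsplit : ∀ g n, g n = e g n - retr T g (d n) := fun g n => by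
    simp only [he, d, LinearMap.sub_apply, LinearMap.restrictScalars_apply, map_sub, ι, TensorProduct.mk_apply,
      retr_one, sub_sub_cancel]
  have hkill : ∀ g : CharacterModule N, (∀ m : M, g m.1 = 0) → ∀ n, e g n = 0 := fun g hg n => by
    obtain ⟨h, hh⟩ := exists_dual_of_kills d g fun n hn => hg ⟨n, hn⟩
    rw [show g = CharacterModule.dual d h from DFunLike.ext _ _ fun n => (hh n).symm]
    exact hed h n
  let μ' := mulMap (R := R) (S := S) (N := N)
  have hμ : ∀ z : S ⊗[R] M, μ' (M.subtype.lTensor S z) = mult M z := fun z => by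
    induction z with
    | zero => simp
    | tmul s m => simp [μ']
    | add a b ha hb => simp [ha, hb]
  have hρ : ∀ z : S ⊗[R] M, ρ (mult M z) = M.subtype.lTensor S z := fun z => by
    induction z with
    | zero => simp
    | tmul s m => rw [mult_tmul, map_smul, (mem_fixed ρ m).1 m.2, smul_tmul']; simp
    | add a b ha hb => simp [ha, hb]
  refine ⟨(injective_iff_map_eq_zero (mult (S := S) M)).2 fun z hz => CharacterModule.eq_zero_of_character_apply fun φ => ?_,
    fun n => ?_⟩
  · have hz' : M.subtype.lTensor S z = 0 := by rw [← hρ, hz, map_zero]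
    -- extend `φ` to `S ⊗ N`
    have hlift : ∀ g : CharacterModule M, ∃ G : CharacterModule N, ∀ m : M, G m.1 = g m :=
      fun g => by
        obtain ⟨G, hG⟩ := CharacterModule.dual_surjective_of_injective M.subtype M.injective_subtype g
        exact ⟨G, fun m => DFunLike.congr_fun hG m⟩
    choose G hG using hlift
    let φs : S → CharacterModule M := fun s => AddMonoidHom.mk' (fun m => φ (s ⊗ₜ m)) fun a b => by
      rw [tmul_add, map_add]
    have wd : ∀ g g' : CharacterModule N, (∀ m : M, g m.1 = g' m.1) → ∀ n, e g n = e g' n := fun g g' h n =>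
      sub_eq_zero.1 (by
        have := hkill (g - g') (fun m => sub_eq_zero.2 (h m)) n
        rw [map_sub] at this
        exact this)
    have hem : ∀ (g : CharacterModule N) (m : M), e g m.1 = g m.1 := fun g m => by
      rw [he, (mem_fixed ρ m.1).1 m.2, retr_one]
    let φ' : CharacterModule (S ⊗[R] N) := TensorProduct.liftAddHom
      (AddMonoidHom.mk' (fun s => e (G (φs s))) fun s t => DFunLike.ext _ _ fun n => by
        show e (G (φs (s + t))) n = (e (G (φs s)) + e (G (φs t))) n
        rw [← map_add]
        refine wd _ _ (fun m => ?_) n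
        show G (φs (s + t)) m.1 = G (φs s) m.1 + G (φs t) m.1
        rw [hG, hG, hG]
        show φ ((s + t) ⊗ₜ m) = φ (s ⊗ₜ m) + φ (t ⊗ₜ m)
        rw [add_tmul, map_add])
      fun r s n => by
        show e (G (φs (r • s))) n = e (G (φs s)) (r • n)
        have h1 := wd (G (φs (r • s))) (r • G (φs s)) (fun m => by
          rw [hG, CharacterModule.smul_apply]
          show φ ((r • s) ⊗ₜ m) = G (φs s) ((r • m : M) : N)
          rw [hG]
          show _ = φ (s ⊗ₜ (r • m))
          rw [smul_tmul]) n
        rw [h1, he, he, show ρ (r • n) = r • ρ n from (ρ.restrictScalars R).map_smul r n]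
        generalize ρ n = w
        induction w with
        | zero => simp
        | add a b ha hb => simp only [smul_add, map_add, ha, hb]
        | tmul a b =>
          rw [← tmul_smul, retr_tmul, retr_tmul]
          congr 2
          refine DFunLike.ext _ _ fun x => ?_
          show (r • G (φs s)) (x • b) = G (φs s) (x • r • b)
          rw [CharacterModule.smul_apply, smul_comm]
    have : ∀ w : S ⊗[R] M, φ' (M.subtype.lTensor S w) = φ w := fun w => by
      induction w with
      | zero => simp
      | add a b ha hb => simp only [map_add, ha, hb]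
      | tmul s m =>
        rw [LinearMap.lTensor_tmul]
        show e (G (φs s)) m.1 = φ (s ⊗ₜ m)
        rw [hem, hG]
        rfl
    rw [← this, hz', map_zero]
  · have hmem : ρ n ∈ LinearMap.range (M.subtype.lTensor S) := by
      rw [← Submodule.Quotient.mk_eq_zero]
      refine CharacterModule.eq_zero_of_character_apply fun Φ => ?_
      let φ : CharacterModule (S ⊗[R] N) := Φ.comp (LinearMap.range (M.subtype.lTensor S)).mkQ.toAddMonoidHom
      show φ (ρ n) = 0
      have hg : ∀ (s : S) (m : M), φ (s ⊗ₜ m.1) = 0 := fun s m => by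
        show Φ (Submodule.Quotient.mk _) = 0
        rw [(Submodule.Quotient.mk_eq_zero _).2 (show s ⊗ₜ[R] m.1 ∈ LinearMap.range (M.subtype.lTensor S) from
          ⟨s ⊗ₜ m, rfl⟩), map_zero]
      let gs : S → CharacterModule N := fun s => AddMonoidHom.mk' (fun x => φ (s ⊗ₜ x)) fun a b => by
        rw [tmul_add, map_add]
      let ψ : CharacterModule (S ⊗[R] (S ⊗[R] N)) := TensorProduct.liftAddHom
        (AddMonoidHom.mk' (fun s => retr T (gs s)) fun s t =>
          (congrArg (retr T) (show gs (s + t) = gs s + gs t from DFunLike.ext _ _ fun x => by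
            show φ ((s + t) ⊗ₜ x) = φ (s ⊗ₜ x) + φ (t ⊗ₜ x)
            rw [add_tmul, map_add])).trans (map_add (retr T) _ _))
        fun r s w => by
          show retr T (gs (r • s)) w = retr T (gs s) (r • w)
          induction w with
          | zero => simp
          | add a b ha hb => simp only [smul_add, map_add, ha, hb]
          | tmul a b =>
            rw [← tmul_smul, retr_tmul, retr_tmul]
            congr 2
            refine DFunLike.ext _ _ fun x => ?_
            show φ ((r • s) ⊗ₜ (x • b)) = φ (s ⊗ₜ (x • r • b))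
            rw [smul_tmul, smul_comm]
      have key : ∀ w : S ⊗[R] N, φ w = - ψ (d.lTensor S w) := fun w => by
        induction w with
        | zero => simp
        | add a b ha hb => simp only [map_add, ha, hb, neg_add]
        | tmul s x =>
          rw [LinearMap.lTensor_tmul]
          show gs s x = - retr T (gs s) (d x)
          rw [hsplit (gs s) x, hkill (gs s) (hg s) x, zero_sub]
      rw [key]
      simp only [d, LinearMap.lTensor_sub, LinearMap.sub_apply, hc, sub_self, map_zero, neg_zero]
    obtain ⟨z, hz⟩ := hmem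
    exact ⟨z, by rw [← hμ, hz]; exact hε n⟩

end Groth.Agent.ModDesc12
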