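import Groth.Agent.Lib.ModDesc12.Main
import Groth.Agent.Lib.ModDesc12.Pure
import Groth.Prelude.Def_Pi1

/-!
# Module descent is an equivalence exactly for universally injective ring maps
-/

universe u

set_option backward.isDefEq.respectTransparency false
set_option backward.isDefEq.respectTransparency.types false

open CategoryTheory ModuleCat TensorProduct
open scoped ChangeOfRings
open CategoryTheory.Pseudofunctor

namespace Groth.Agent.ModDesc12

variable {R S : Type u} [CommRing R] [CommRing S] [Algebra R S]

/-- `1 ⊗ -` is injective on every module. -/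
def PureInj (R S : Type u) [CommRing R] [CommRing S] [Algebra R S] : Prop :=
  ∀ (P : Type u) [AddCommGroup P] [Module R P], Function.Injective (fun x : P => (1 : S) ⊗ₜ[R] x)

theorem pureInj_iff : PureInj R S ↔ Pi1.UnivInjective R S := by
  have key : ∀ (P : Type u) [AddCommGroup P] [Module R P] (z : P ⊗[R] R),
      TensorProduct.comm R P S ((Algebra.linearMap R S).lTensor P z) =
        (1 : S) ⊗ₜ[R] TensorProduct.rid R P z := fun P _ _ z => by
    induction z with
    | zero => simp
    | add a b ha hb => simp only [map_add, ha, hb, tmul_add]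
    | tmul p r =>
      simp only [LinearMap.lTensor_tmul, Algebra.linearMap_apply, TensorProduct.comm_tmul,
        TensorProduct.rid_tmul]
      rw [Algebra.algebraMap_eq_smul_one, smul_tmul]
  constructor
  · intro h P _ _ a b hab
    refine (TensorProduct.rid R P).injective (h P ?_)
    show (1 : S) ⊗ₜ[R] TensorProduct.rid R P a = (1 : S) ⊗ₜ[R] TensorProduct.rid R P b
    rw [← key, ← key, hab]
  · intro h P _ _ x y hxy
    obtain ⟨a, rfl⟩ := (TensorProduct.rid R P).surjective x
    obtain ⟨b, rfl⟩ := (TensorProduct.rid R P).surjective y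
    congr 1
    refine h P ((TensorProduct.comm R P S).injective ?_)
    rw [key, key]
    exact hxy

section Ext

variable (M : ModuleCat.{u} R)

/-- `S ⊗ M`, as an `S`-module. -/
noncomputable def stdMod : ModuleCat.{u} S := ModuleCat.of S (S ⊗[R] M)

/-- Back to the algebraic tensor product. -/
noncomputable def back : (extendScalars (algebraMap R S)).obj M ⟶ stdMod (S := S) M :=
  ((extendRestrictScalarsAdj (algebraMap R S)).homEquiv _ _).symm (ModuleCat.ofHom
    (Y := (restrictScalars (algebraMap R S)).obj (stdMod (S := S) M))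
    { toFun := fun (m : M) => ((1 : S) ⊗ₜ[R] m : S ⊗[R] M)
      map_add' := fun m n => TensorProduct.tmul_add _ _ _
      map_smul' := fun (r : R) (m : M) => by
        show (1 : S) ⊗ₜ[R] (r • m) = algebraMap R S r • ((1 : S) ⊗ₜ[R] m)
        rw [algebraMap_smul, ← tmul_smul] })

theorem back_one (m : M) : (back M (one (algebraMap R S) M m) : S ⊗[R] M) = 1 ⊗ₜ m := by
  have h := extendRestrictScalarsAdj_homEquiv_apply (f := algebraMap R S) (back (S := S) M) m
  rw [back, Equiv.apply_symm_apply] at h
  exact h.symm

theorem one_injective (h : PureInj R S) : Function.Injective (one (algebraMap R S) M) := fun a b hab =>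
  h M (by
    show (1 : S) ⊗ₜ[R] a = (1 : S) ⊗ₜ[R] b
    rw [← back_one, ← back_one, hab])

/-- The descent datum of a module. -/
noncomputable abbrev D0 : Desc.ringModPF.{u}.DescentData (cov R S) :=
  (Desc.ringModPF.{u}.toDescentData (cov R S)).obj M

/-- `1 ⊗ m`, in the descent datum of `M`. -/
noncomputable def el (m : M) : Nd (D0 (S := S) M) := one (algebraMap R S) M m

theorem th_ofObj {A : CommRingCat.{u}} (a b : CommRingCat.of S ⟶ A) (h : Agree (R := R) a b) (m : M) :
    th (D0 (S := S) M) a b h (el M m) = one b.hom _ (el M m) := by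
  let f := CommRingCat.ofHom (algebraMap R S)
  have hfb : f.op.op.toLoc ≫ b.op.op.toLoc = (f ≫ a).op.op.toLoc := by
    rw [show f ≫ a = f ≫ b from h]; rfl
  have e1 : mcInv f a (f ≫ a) rfl M (one a.hom _ (one f.hom M m)) = one (f ≫ a).hom M m :=
    mcInv_one f a (f ≫ a) rfl M m
  have e2 : mc f b (f ≫ a) hfb M (one (f ≫ a).hom M m) = one b.hom _ (one f.hom M m) :=
    mapComp'_one f b (f ≫ a) hfb M m
  exact (congrArg (mc f b (f ≫ a) hfb M) e1).trans e2

theorem rho_ofObj (m : M) : rho (D0 (S := S) M) (el M m) = 1 ⊗ₜ el M m := by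
  show (eB (D0 (S := S) M) S (th (D0 (S := S) M) (uL R S) (incR R S S) agree_univ (el M m)) :
    S ⊗[R] (Nd (D0 (S := S) M))) = _
  rw [th_ofObj, ← one_smul (S ⊗[R] S) (one (incR R S S).hom _ (el M m)), eB_smul_one, map_one]
  rfl

/-- The map to the fixed submodule. -/
noncomputable def inc : M →ₗ[R] fixed (rho (D0 (S := S) M)) where
  toFun m := ⟨el M m, (mem_fixed _ _).2 (rho_ofObj M m)⟩
  map_add' m n := Subtype.ext (one_add _ _ m n)
  map_smul' r m := Subtype.ext (one_smul' (algebraMap R S) M r m)

theorem bijective_inc (h : PureInj R S) : Function.Bijective (inc (S := S) M) := by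
  obtain ⟨T⟩ := nonempty_dualRetraction h
  refine ⟨fun a b hab => one_injective M h (congrArg Subtype.val hab), fun q => ?_⟩
  let D := D0 (S := S) M
  have hb := bijective_mult_of_retraction T (rho D) (rho_counit D) (rho_coassoc D)
  have hsurj : Function.Surjective ((inc (S := S) M).lTensor S) := fun z => by
    have hgen : ∀ x : Nd D, ∃ w, mult (S := S) (fixed (rho D)) ((inc (S := S) M).lTensor S w) = x := by
      intro x
      induction x using induction_one (a := algebraMap R S) (N := M) with
      | h0 => exact ⟨0, by rw [map_zero, map_zero]⟩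
      | hadd x y hx hy =>
        obtain ⟨a, rfl⟩ := hx; obtain ⟨b, rfl⟩ := hy
        exact ⟨a + b, by rw [map_add, map_add]⟩
      | h s m => exact ⟨s ⊗ₜ m, by rw [LinearMap.lTensor_tmul, mult_tmul]; rfl⟩
    obtain ⟨w, hw⟩ := hgen (mult (S := S) (fixed (rho D)) z)
    exact ⟨w, hb.1 hw⟩
  let Q := LinearMap.range (inc (S := S) M)
  have hq : Submodule.Quotient.mk (p := Q) q = 0 := by
    refine h (fixed (rho D) ⧸ Q) ?_
    show (1 : S) ⊗ₜ[R] Submodule.Quotient.mk q = (1 : S) ⊗ₜ[R] (0 : fixed (rho D) ⧸ Q)
    obtain ⟨w, hw⟩ := hsurj ((1 : S) ⊗ₜ q)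
    rw [show (1 : S) ⊗ₜ[R] Submodule.Quotient.mk q = Q.mkQ.lTensor S ((1 : S) ⊗ₜ q) from rfl, ← hw,
      ← LinearMap.comp_apply, ← LinearMap.lTensor_comp,
      show Q.mkQ ∘ₗ inc (S := S) M = 0 from LinearMap.range_mkQ_comp _, LinearMap.lTensor_zero,
      tmul_zero]
    rfl
  obtain ⟨m, hm⟩ := (Submodule.Quotient.mk_eq_zero Q).1 hq
  exact ⟨m, hm⟩

end Ext

variable {M N : ModuleCat.{u} R}

/-- The module map underlying a morphism of descent data. -/
noncomputable def under (η : D0 (S := S) M ⟶ D0 (S := S) N) :
    Nd (D0 (S := S) M) ⟶ Nd (D0 (S := S) N) := η.hom PUnit.unit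

theorem under_comm (η : D0 (S := S) M ⟶ D0 (S := S) N) {A : CommRingCat.{u}}
    (a b : CommRingCat.of S ⟶ A) (h : Agree (R := R) a b) :
    (extendScalars a.hom).map (under η) ≫ hm (D0 (S := S) N) a b h =
      hm (D0 (S := S) M) a b h ≫ (extendScalars b.hom).map (under η) :=
  η.comm (CommRingCat.ofHom (algebraMap R S) ≫ a).op (i₁ := PUnit.unit) (i₂ := PUnit.unit)
    a.op b.op rfl (congrArg Quiver.Hom.op h).symm

theorem th_under (η : D0 (S := S) M ⟶ D0 (S := S) N) {A : CommRingCat.{u}}
    (a b : CommRingCat.of S ⟶ A) (h : Agree (R := R) a b) (m : M) :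
    th (D0 (S := S) N) a b h (under η (el M m)) = one b.hom _ (under η (el M m)) := by
  have c' := congr($(under_comm η a b h) (one a.hom _ (el M m)))
  rw [CategoryTheory.comp_apply, CategoryTheory.comp_apply, map_one'] at c'
  refine c'.trans ?_
  rw [show hm (D0 (S := S) M) a b h (one a.hom _ (el M m)) = one b.hom _ (el M m) from th_ofObj M a b h m,
    map_one']

theorem rho_one_of_th {D : Desc.ringModPF.{u}.DescentData (cov R S)} (x : Nd D)
    (hx : th D (uL R S) (incR R S S) agree_univ x = one (incR R S S).hom _ x) :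
    rho D x = 1 ⊗ₜ x := by
  show (eB D S (th D (uL R S) (incR R S S) agree_univ x) : S ⊗[R] (Nd D)) = _
  rw [hx, ← one_smul (S ⊗[R] S) (one (incR R S S).hom _ x), eB_smul_one, map_one]
  rfl

theorem under_mem_fixed (η : D0 (S := S) M ⟶ D0 (S := S) N) (m : M) :
    under η (el M m) ∈ fixed (rho (D0 (S := S) N)) :=
  (mem_fixed _ _).2 (rho_one_of_th _ (th_under η _ _ _ m))

/-- The linear map to fixed points of a morphism of descent data. -/
noncomputable def toFixed (η : D0 (S := S) M ⟶ D0 (S := S) N) : M →ₗ[R] fixed (rho (D0 (S := S) N)) where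
  toFun m := ⟨under η (el M m), under_mem_fixed η m⟩
  map_add' m n := Subtype.ext (by
    show under η (el M (m + n)) = under η (el M m) + under η (el M n)
    rw [el, one_add, map_add]; rfl)
  map_smul' r m := Subtype.ext (by
    show under η (el M (r • m)) = algebraMap R S r • under η (el M m)
    rw [el, one_smul', ← map_smul]; rfl)

theorem exists_preimage (h : PureInj R S) (η : D0 (S := S) M ⟶ D0 (S := S) N) :
    ∃ g : M ⟶ N, (Desc.ringModPF.{u}.toDescentData (cov R S)).map g = η := by
  let e := LinearEquiv.ofBijective _ (bijective_inc N h)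
  refine ⟨ModuleCat.ofHom (e.symm.toLinearMap ∘ₗ toFixed η),
    DescentData.hom_ext fun _ => ExtendScalars.hom_ext fun m => ?_⟩
  show one (algebraMap R S) N (e.symm (toFixed η m)) = under η (el M m)
  exact congrArg Subtype.val (e.apply_symm_apply (toFixed η m))

theorem full (h : PureInj R S) : (Desc.ringModPF.{u}.toDescentData (cov R S)).Full :=
  ⟨fun η => exists_preimage h η⟩

theorem faithful (h : PureInj R S) : (Desc.ringModPF.{u}.toDescentData (cov R S)).Faithful := by
  refine ⟨fun {M N} f g hfg => ?_⟩
  change ModuleCat.{u} R at M N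
  refine ModuleCat.hom_ext (LinearMap.ext fun m => ?_)
  apply one_injective (S := S) N h
  have e : (extendScalars (algebraMap R S)).map f = (extendScalars (algebraMap R S)).map g :=
    congr($(hfg).hom PUnit.unit)
  exact congr($e (one (algebraMap R S) M m))

theorem isEquivalence (h : PureInj R S) :
    (Desc.ringModPF.{u}.toDescentData (cov R S)).IsEquivalence where
  faithful := faithful h
  full := full h
  essSurj := ⟨fun D => by
    obtain ⟨T⟩ := nonempty_dualRetraction h
    exact effective_of D (bijective_mult_of_retraction T (rho D) (rho_counit D) (rho_coassoc D))⟩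

theorem pureInj_of_faithful (h : (Desc.ringModPF.{u}.toDescentData (cov R S)).Faithful) : PureInj R S := by
  intro P _ _ x y hxy
  let F := Desc.ringModPF.{u}.toDescentData (cov R S)
  let M : ModuleCat.{u} R := ModuleCat.of R R
  let N : ModuleCat.{u} R := ModuleCat.of R P
  let gx : M ⟶ N := ModuleCat.ofHom (LinearMap.toSpanSingleton R P x)
  let gy : M ⟶ N := ModuleCat.ofHom (LinearMap.toSpanSingleton R P y)
  let jj : S ⊗[R] P →+ ↑((extendScalars (algebraMap R S)).obj N) :=
    TensorProduct.liftAddHom
      (AddMonoidHom.mk' (fun s => AddMonoidHom.mk' (fun m : P => s • one (algebraMap R S) N m)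
          fun m n => by rw [← smul_add, ← one_add])
        fun s t => AddMonoidHom.ext fun m => by simp [add_smul])
      fun r s m => by
        show (r • s) • one (algebraMap R S) N m = s • one (algebraMap R S) N (r • m)
        rw [one_smul' (algebraMap R S) N, smul_smul, Algebra.smul_def, mul_comm]
  have key : ∀ p : P, jj (1 ⊗ₜ p) = one (algebraMap R S) N p := fun p =>
    (TensorProduct.liftAddHom_tmul _ _ _ _).trans (one_smul S _)
  have e : one (algebraMap R S) N x = one (algebraMap R S) N y := by
    rw [← key, ← key]; exact congrArg jj hxy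
  have : gx = gy := h.map_injective (DescentData.hom_ext fun _ => ExtendScalars.hom_ext fun (r : R) => by
    show one (algebraMap R S) N (r • x) = one (algebraMap R S) N (r • y)
    rw [one_smul', one_smul', e])
  exact (one_smul R x).symm.trans (Eq.trans congr($this (1 : R)) (one_smul R y))

end Groth.Agent.ModDesc12
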