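import Groth.Agent.Lib.ModDesc12.Alg
import Groth.Prelude.Def_Desc

/-!
# Effectivity of descent of modules along flat ring maps with coalgebra structure
-/

universe u

set_option backward.isDefEq.respectTransparency false
set_option backward.isDefEq.respectTransparency.types false

open CategoryTheory ModuleCat TensorProduct
open scoped ChangeOfRings
open CategoryTheory.Pseudofunctor

namespace Groth.Agent.ModDesc12

/-- `1 ⊗ n` in the extension of scalars. -/
noncomputable def one {A B : Type u} [CommRing A] [CommRing B] (a : A →+* B) (N : ModuleCat.{u} A) (n : N) :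
    ↑((extendScalars a).obj N) :=
  (1 : B) ⊗ₜ[A,a] n

section Basic

variable {A B C : Type u} [CommRing A] [CommRing B] [CommRing C] (a : A →+* B) (N : ModuleCat.{u} A)

theorem one_add (m n : N) : one a N (m + n) = one a N m + one a N n :=
  TensorProduct.tmul_add _ _ _

theorem one_zero : one a N 0 = 0 :=
  TensorProduct.tmul_zero _ _

theorem one_smul' (s : A) (n : N) : one a N (s • n) = a s • one a N n := by
  show (1 : B) ⊗ₜ[A,a] (s • n) = a s • ((1 : B) ⊗ₜ[A,a] n)
  rw [ExtendScalars.smul_tmul, mul_one]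
  let := Module.compHom B a
  erw [← TensorProduct.smul_tmul]
  congr 1
  exact mul_one _

theorem induction_one {P : ↑((extendScalars a).obj N) → Prop} (h0 : P 0)
    (hadd : ∀ x y, P x → P y → P (x + y)) (h : ∀ (b : B) (n : N), P (b • one a N n)) (x) : P x := by
  refine TensorProduct.induction_on (motive := P) x h0 (fun b n => ?_) hadd
  have := h b n
  rw [one, ExtendScalars.smul_tmul, mul_one] at this
  exact this

theorem one_injective_id : Function.Injective (one (RingHom.id A) N) := fun m n h => by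
  have := congrArg ((extendScalarsId A).hom.app N) h
  erw [extendScalarsId_hom_app_one_tmul, extendScalarsId_hom_app_one_tmul] at this
  exact this

theorem map_one' {M N : ModuleCat.{u} A} (g : M ⟶ N) (m : M) :
    (extendScalars a).map g (one a M m) = one a N (g m) := rfl

end Basic



theorem map_eq {A B : CommRingCat.{u}} (a : A ⟶ B) :
    (Desc.ringModPF.{u}.map a.op.op.toLoc).toFunctor = extendScalars a.hom := rfl

/-- The composition isomorphism of the pseudofunctor, as a map of modules. -/
noncomputable def mc {A B C : CommRingCat.{u}} (a : A ⟶ B) (b : B ⟶ C) (c : A ⟶ C)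
    (h : a.op.op.toLoc ≫ b.op.op.toLoc = c.op.op.toLoc) (M : ModuleCat.{u} A) :
    (extendScalars c.hom).obj M ⟶ (extendScalars b.hom).obj ((extendScalars a.hom).obj M) :=
  (Desc.ringModPF.{u}.mapComp' a.op.op.toLoc b.op.op.toLoc c.op.op.toLoc h).hom.toNatTrans.app M

/-- The composition isomorphism of the pseudofunctor sends `1 ⊗ m` to `1 ⊗ (1 ⊗ m)`. -/
theorem mapComp'_one {A B C : CommRingCat.{u}} (a : A ⟶ B) (b : B ⟶ C) (c : A ⟶ C)
    (h : a.op.op.toLoc ≫ b.op.op.toLoc = c.op.op.toLoc) (M : ModuleCat.{u} A) (m : M) :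
    mc a b c h M (one c.hom M m) = one b.hom _ (one a.hom M m) := by
  obtain rfl : c = a ≫ b := by
    have := congrArg (fun t => t.as.unop.unop) h
    simpa using this.symm
  have e : Desc.ringModPF.{u}.mapComp' a.op.op.toLoc b.op.op.toLoc (a ≫ b).op.op.toLoc h =
      Desc.ringModPF.{u}.mapComp a.op.op.toLoc b.op.op.toLoc := Pseudofunctor.mapComp'_eq_mapComp _ _ _
  unfold mc
  rw [e]
  exact extendScalarsComp_hom_app_one_tmul a.hom b.hom M m

/-- The inverse of the composition isomorphism. -/
noncomputable def mcInv {A B C : CommRingCat.{u}} (a : A ⟶ B) (b : B ⟶ C) (c : A ⟶ C)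
    (h : a.op.op.toLoc ≫ b.op.op.toLoc = c.op.op.toLoc) (M : ModuleCat.{u} A) :
    (extendScalars b.hom).obj ((extendScalars a.hom).obj M) ⟶ (extendScalars c.hom).obj M :=
  (Desc.ringModPF.{u}.mapComp' a.op.op.toLoc b.op.op.toLoc c.op.op.toLoc h).inv.toNatTrans.app M

theorem mcInv_one {A B C : CommRingCat.{u}} (a : A ⟶ B) (b : B ⟶ C) (c : A ⟶ C)
    (h : a.op.op.toLoc ≫ b.op.op.toLoc = c.op.op.toLoc) (M : ModuleCat.{u} A) (m : M) :
    mcInv a b c h M (one b.hom _ (one a.hom M m)) = one c.hom M m := by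
  rw [← mapComp'_one a b c h M m]
  have e' : mc a b c h M ≫ mcInv a b c h M = 𝟙 _ :=
    (Cat.Hom.toNatIso (Desc.ringModPF.{u}.mapComp' a.op.op.toLoc b.op.op.toLoc c.op.op.toLoc h)).hom_inv_id_app M
  rw [← CategoryTheory.comp_apply, e']
  rfl

variable {R S : Type u} [CommRing R] [CommRing S] [Algebra R S]

/-- The covering morphism. -/
abbrev cov (R S : Type u) [CommRing R] [CommRing S] [Algebra R S] :
    PUnit.{u + 1} → (Opposite.op (CommRingCat.of S) ⟶ Opposite.op (CommRingCat.of R)) :=
  fun _ => (CommRingCat.ofHom (algebraMap R S)).op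

variable (D : Desc.ringModPF.{u}.DescentData (cov R S))

/-- The underlying module of the descent datum. -/
noncomputable def Nd : ModuleCat.{u} S := D.obj PUnit.unit

noncomputable instance modR : Module R (Nd D) := Module.compHom (Nd D) (algebraMap R S)

instance towerRS : IsScalarTower R S (Nd D) :=
  ⟨fun r s n => by rw [Algebra.smul_def, mul_smul]; rfl⟩

variable {A A' : CommRingCat.{u}}

/-- Two morphisms agreeing on `R`. -/
def Agree (a b : CommRingCat.of S ⟶ A) : Prop :=
  CommRingCat.ofHom (algebraMap R S) ≫ a = CommRingCat.ofHom (algebraMap R S) ≫ b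

theorem Agree.comp {a b : CommRingCat.of S ⟶ A} (h : Agree (R := R) a b) (g : A ⟶ A') :
    Agree (R := R) (a ≫ g) (b ≫ g) := by
  unfold Agree at *
  rw [reassoc_of% h]

/-- The glueing map. -/
noncomputable def hm (a b : CommRingCat.of S ⟶ A) (h : Agree (R := R) a b) :
    (extendScalars a.hom).obj (Nd D) ⟶ (extendScalars b.hom).obj (Nd D) :=
  D.hom (CommRingCat.ofHom (algebraMap R S) ≫ a).op (i₁ := PUnit.unit) (i₂ := PUnit.unit) a.op b.op
    rfl (congrArg Quiver.Hom.op h).symm

/-- The glueing map on generators. -/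
noncomputable def th (a b : CommRingCat.of S ⟶ A) (h : Agree (R := R) a b) (n : Nd D) :
    ↑((extendScalars b.hom).obj (Nd D)) :=
  hm D a b h (one a.hom (Nd D) n)

/-- Change of rings on extended modules. -/
noncomputable def chg (b : CommRingCat.of S ⟶ A) (g : A ⟶ A') :
    ↑((extendScalars b.hom).obj (Nd D)) →+ ↑((extendScalars (b ≫ g).hom).obj (Nd D)) :=
  AddMonoidHom.mk' (fun z => mcInv b g (b ≫ g) rfl (Nd D) (one g.hom _ z)) fun z w => by
    rw [one_add, map_add]

theorem chg_one (b : CommRingCat.of S ⟶ A) (g : A ⟶ A') (n : Nd D) :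
    chg D b g (one b.hom _ n) = one (b ≫ g).hom _ n :=
  mcInv_one b g (b ≫ g) rfl (Nd D) n

theorem chg_smul (b : CommRingCat.of S ⟶ A) (g : A ⟶ A') (x : A) (z) :
    chg D b g (x • z) = g.hom x • chg D b g z := by
  show mcInv b g (b ≫ g) rfl (Nd D) (one g.hom _ (x • z)) = _
  rw [one_smul', map_smul]
  rfl

theorem th_comp (a b : CommRingCat.of S ⟶ A) (h : Agree (R := R) a b) (g : A ⟶ A') (n : Nd D) :
    th D (a ≫ g) (b ≫ g) (h.comp g) n = chg D b g (th D a b h n) := by
  have e : mc a g (a ≫ g) rfl (Nd D) ≫ (extendScalars g.hom).map (hm D a b h) ≫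
      mcInv b g (b ≫ g) rfl (Nd D) = hm D (a ≫ g) (b ≫ g) (h.comp g) :=
    D.pullHom_hom g.op (CommRingCat.ofHom (algebraMap R S) ≫ a).op
      (CommRingCat.ofHom (algebraMap R S) ≫ a ≫ g).op rfl a.op b.op rfl
      (congrArg Quiver.Hom.op h).symm (a ≫ g).op (b ≫ g).op rfl rfl
  show hm D (a ≫ g) (b ≫ g) (h.comp g) (one (a ≫ g).hom (Nd D) n) = _
  rw [← e, CategoryTheory.comp_apply, CategoryTheory.comp_apply, mapComp'_one, map_one']
  rfl

/-- `s ⊗ n ↦ a s • (1 ⊗ n)`. -/
noncomputable def psi (a b : CommRingCat.of S ⟶ A) (h : Agree (R := R) a b) :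
    S ⊗[R] (Nd D) →+ ↑((extendScalars b.hom).obj (Nd D)) :=
  TensorProduct.liftAddHom
    (AddMonoidHom.mk' (fun s => AddMonoidHom.mk' (fun n => a.hom s • one b.hom _ n)
        fun m n => by rw [one_add, smul_add])
      fun s t => AddMonoidHom.ext fun n => by simp [map_add, add_smul])
    fun r s n => by
      show a.hom (r • s) • one b.hom (Nd D) n = a.hom s • one b.hom (Nd D) (algebraMap R S r • n)
      rw [one_smul', smul_smul, Algebra.smul_def, map_mul, mul_comm (a.hom s)]
      congr 2
      exact congr($(h).hom r)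

theorem psi_tmul (a b : CommRingCat.of S ⟶ A) (h : Agree (R := R) a b) (s : S) (n : Nd D) :
    psi D a b h (s ⊗ₜ n) = a.hom s • one b.hom _ n :=
  TensorProduct.liftAddHom_tmul _ _ _ _

section Univ

variable (R S) (B : Type u) [CommRing B] [Algebra R B]

/-- `B ⊗ S`. -/
abbrev Ring2 : CommRingCat.{u} := CommRingCat.of (B ⊗[R] S)

/-- The right inclusion. -/
noncomputable abbrev incR : CommRingCat.of S ⟶ Ring2 R S B :=
  CommRingCat.ofHom (Algebra.TensorProduct.includeRight (R := R) (A := B) (B := S)).toRingHom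

/-- The left inclusion. -/
noncomputable abbrev incL : CommRingCat.of B ⟶ Ring2 R S B :=
  CommRingCat.ofHom (Algebra.TensorProduct.includeLeftRingHom (R := R) (A := B) (B := S))

theorem agree_incl (i : S →ₐ[R] B) :
    Agree (R := R) (CommRingCat.ofHom i.toRingHom ≫ incL R S B) (incR R S B) := by
  unfold Agree
  ext r
  show (i (algebraMap R S r)) ⊗ₜ[R] (1 : S) = (1 : B) ⊗ₜ[R] algebraMap R S r
  rw [AlgHom.commutes, Algebra.algebraMap_eq_smul_one, Algebra.algebraMap_eq_smul_one,
    TensorProduct.smul_tmul]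

variable {R S}

/-- The action ring map. -/
noncomputable def actHom : B ⊗[R] S →+* Module.End R (B ⊗[R] (Nd D)) := (act R S (Nd D) B).toRingHom

/-- `B ⊗ N` as a module over `B ⊗ S`. -/
noncomputable def actMod : ModuleCat.{u} (Ring2 R S B) :=
  letI := Module.compHom (B ⊗[R] (Nd D)) (actHom D B)
  ModuleCat.of (B ⊗[R] S) (B ⊗[R] (Nd D))

/-- The comparison `(B ⊗ S) ⊗_S N ⟶ B ⊗ N`. -/
noncomputable def eB : (extendScalars (incR R S B).hom).obj (Nd D) ⟶ actMod D B :=
  ((extendRestrictScalarsAdj (incR R S B).hom).homEquiv _ _).symm (ModuleCat.ofHom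
    (Y := (restrictScalars (incR R S B).hom).obj (actMod D B))
    { toFun := fun (n : Nd D) => ((1 : B) ⊗ₜ[R] n : B ⊗[R] (Nd D))
      map_add' := fun m n => TensorProduct.tmul_add _ _ _
      map_smul' := fun (s : S) (n : Nd D) => by
        show (1 : B) ⊗ₜ[R] (s • n) = act R S (Nd D) B ((1 : B) ⊗ₜ s) ((1 : B) ⊗ₜ n)
        rw [act_tmul, one_mul] })

theorem eB_smul_one (x : B ⊗[R] S) (n : Nd D) :
    (eB D B (x • one (incR R S B).hom _ n) : B ⊗[R] (Nd D)) = act R S (Nd D) B x (1 ⊗ₜ n) := by
  have h := extendRestrictScalarsAdj_homEquiv_apply (f := (incR R S B).hom) (eB D B) n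
  rw [eB, Equiv.apply_symm_apply] at h
  rw [map_smul]
  show act R S (Nd D) B x (eB D B (one (incR R S B).hom _ n) : B ⊗[R] (Nd D)) = _
  exact congrArg (act R S (Nd D) B x) h.symm

end Univ

/-- The universal pair. -/
noncomputable abbrev uL (R S : Type u) [CommRing R] [CommRing S] [Algebra R S] :
    CommRingCat.of S ⟶ Ring2 R S S := CommRingCat.ofHom (AlgHom.id R S).toRingHom ≫ incL R S S

theorem agree_univ : Agree (R := R) (uL R S) (incR R S S) := agree_incl R S S (AlgHom.id R S)

theorem psi_eB (z : ↑((extendScalars (incR R S S).hom).obj (Nd D))) :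
    psi D (uL R S) (incR R S S) agree_univ (eB D S z : S ⊗[R] (Nd D)) = z := by
  induction z using induction_one with
  | h0 => exact (congrArg _ (map_zero (eB D S).hom)).trans (map_zero _)
  | hadd x y hx hy =>
    rw [map_add]
    exact (map_add (psi D _ _ agree_univ) _ _).trans (congrArg₂ (· + ·) hx hy)
  | h b n =>
    rw [eB_smul_one]
    induction b using TensorProduct.induction_on with
    | zero => rw [map_zero, LinearMap.zero_apply, map_zero, zero_smul]
    | add x y hx hy => rw [map_add, LinearMap.add_apply, map_add, hx, hy, add_smul]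
    | tmul s t =>
      rw [act_tmul, psi_tmul, one_smul', smul_smul]
      congr 1
      show (s * 1) ⊗ₜ[R] (1 : S) * ((1 : S) ⊗ₜ[R] t) = s ⊗ₜ[R] t
      rw [Algebra.TensorProduct.tmul_mul_tmul, mul_one, mul_one, one_mul]

theorem act_left (s : S) (p : S ⊗[R] (Nd D)) : act R S (Nd D) S (s ⊗ₜ 1) p = s • p := by
  induction p using TensorProduct.induction_on with
  | zero => simp
  | add x y hx hy => rw [map_add, hx, hy, smul_add]
  | tmul b m => rw [act_tmul, one_smul, smul_tmul', smul_eq_mul]

/-- The coaction. -/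
noncomputable def rho : Nd D →ₗ[S] S ⊗[R] (Nd D) where
  toFun n := (eB D S (th D (uL R S) (incR R S S) agree_univ n) : S ⊗[R] (Nd D))
  map_add' m n := by
    unfold th
    rw [one_add, map_add, map_add]
  map_smul' s n := by
    simp only [th, one_smul', map_smul]
    show act R S (Nd D) S (s ⊗ₜ 1) (eB D S (th D (uL R S) (incR R S S) agree_univ n) : S ⊗[R] (Nd D)) = _
    exact act_left D s _

theorem chg_psi (a b : CommRingCat.of S ⟶ A) (h : Agree (R := R) a b) (g : A ⟶ A') (p : S ⊗[R] (Nd D)) :
    chg D b g (psi D a b h p) = psi D (a ≫ g) (b ≫ g) (h.comp g) p := by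
  induction p using TensorProduct.induction_on with
  | zero => exact (congrArg _ (map_zero _)).trans ((map_zero _).trans (map_zero _).symm)
  | add x y hx hy => rw [map_add, map_add, map_add, hx, hy]
  | tmul s n => rw [psi_tmul, psi_tmul, chg_smul, chg_one]; rfl

theorem th_eq (a b : CommRingCat.of S ⟶ A) (h : Agree (R := R) a b) (n : Nd D) :
    th D a b h n = psi D a b h (rho D n) := by
  let algA : Algebra R A := (a.hom.comp (algebraMap R S)).toAlgebra
  let a' : S →ₐ[R] A := { a.hom with commutes' := fun r => rfl }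
  let b' : S →ₐ[R] A := { b.hom with commutes' := fun r => (congr($(h).hom r)).symm }
  let g : Ring2 R S S ⟶ A :=
    CommRingCat.ofHom (Algebra.TensorProduct.lift a' b' fun x y => Commute.all _ _).toRingHom
  have ha : a = uL R S ≫ g := by
    ext s
    show a.hom s = Algebra.TensorProduct.lift a' b' (fun x y => Commute.all _ _) (s ⊗ₜ 1)
    rw [Algebra.TensorProduct.lift_tmul, map_one, mul_one]
    rfl
  have hb : b = incR R S S ≫ g := by
    ext s
    show b.hom s = Algebra.TensorProduct.lift a' b' (fun x y => Commute.all _ _) (1 ⊗ₜ s)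
    rw [Algebra.TensorProduct.lift_tmul, map_one, one_mul]
    rfl
  have K : ∀ (g : Ring2 R S S ⟶ A) (a b : CommRingCat.of S ⟶ A) (h : Agree (R := R) a b),
      a = uL R S ≫ g → b = incR R S S ≫ g → th D a b h n = psi D a b h (rho D n) := by
    intro g a b h ha hb
    subst ha hb
    rw [th_comp D (uL R S) (incR R S S) agree_univ g n, ← chg_psi D (uL R S) (incR R S S) agree_univ g]
    congr 1
    exact (psi_eB D _).symm
  exact K g a b h ha hb

theorem hm_comp (a b c : CommRingCat.of S ⟶ A) (hab : Agree (R := R) a b) (hbc : Agree (R := R) b c)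
    (hac : Agree (R := R) a c) : hm D a b hab ≫ hm D b c hbc = hm D a c hac := by
  have e : ∀ (q : Opposite.op A ⟶ Opposite.op (CommRingCat.of R))
      (_ : q = (CommRingCat.ofHom (algebraMap R S) ≫ b).op) (h1 : b.op ≫ cov R S PUnit.unit = q)
      (h2 : c.op ≫ cov R S PUnit.unit = q),
      D.hom q (i₁ := PUnit.unit) (i₂ := PUnit.unit) b.op c.op h1 h2 = hm D b c hbc := by
    intro q hq h1 h2
    subst hq
    rfl
  rw [← e (CommRingCat.ofHom (algebraMap R S) ≫ a).op (congrArg Quiver.Hom.op hab)
    (congrArg Quiver.Hom.op hab).symm (congrArg Quiver.Hom.op hac).symm]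
  exact D.hom_comp _ _ _ _ _ _ _

theorem rho_counit (n : Nd D) : mulMap (rho D n) = n := by
  have h : Agree (R := R) (𝟙 (CommRingCat.of S)) (𝟙 _) := rfl
  have e : hm D (𝟙 _) (𝟙 _) h = 𝟙 _ := D.hom_self _ _ rfl
  have e1 : th D (𝟙 _) (𝟙 _) h n = one (RingHom.id S) (Nd D) n := by
    rw [th, e]; rfl
  rw [th_eq] at e1
  have e2 : ∀ p : S ⊗[R] (Nd D), psi D (𝟙 _) (𝟙 _) h p = one (RingHom.id S) (Nd D) (mulMap p) := by
    intro p
    induction p using TensorProduct.induction_on with
    | zero => rw [map_zero, map_zero]; exact (TensorProduct.tmul_zero _ _).symm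
    | add x y hx hy => rw [map_add, map_add, hx, hy, one_add]
    | tmul s m => rw [psi_tmul, mulMap_tmul, one_smul']; rfl
  rw [e2] at e1
  exact one_injective_id _ e1

theorem rho_coassoc (n : Nd D) :
    LinearMap.lTensor S ((rho D).restrictScalars R) (rho D n) = LinearMap.lTensor S ι (rho D n) := by
  let B := S ⊗[R] S
  let j : CommRingCat.of B ⟶ Ring2 R S B := incL R S B
  let a := CommRingCat.ofHom (Algebra.TensorProduct.includeLeft (R := R) (S := R) (A := S) (B := S)).toRingHom ≫ j
  let b := CommRingCat.ofHom (Algebra.TensorProduct.includeRight (R := R) (A := S) (B := S)).toRingHom ≫ j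
  let c := incR R S B
  have hac : Agree (R := R) a c := agree_incl R S B Algebra.TensorProduct.includeLeft
  have hbc : Agree (R := R) b c := agree_incl R S B Algebra.TensorProduct.includeRight
  have hab : Agree (R := R) a b := hac.trans hbc.symm
  have key : hm D b c hbc (psi D a b hab (rho D n)) = psi D a c hac (rho D n) := by
    rw [← th_eq, ← th_eq, th, th, ← CategoryTheory.comp_apply]
    rw [hm_comp D a b c hab hbc hac]
  let α := (TensorProduct.assoc R S S (Nd D)).symm
  have h1 : ∀ p : S ⊗[R] (Nd D), (eB D B (hm D b c hbc (psi D a b hab p)) : B ⊗[R] (Nd D)) =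
      α (LinearMap.lTensor S ((rho D).restrictScalars R) p) := by
    intro p
    induction p using TensorProduct.induction_on with
    | zero => simp only [map_zero]
    | add x y hx hy =>
      simp only [map_add]
      exact congrArg₂ (· + ·) hx hy
    | tmul s m =>
      rw [psi_tmul, map_smul, show hm D b c hbc (one b.hom (Nd D) m) = th D b c hbc m from rfl, th_eq,
        LinearMap.lTensor_tmul, LinearMap.restrictScalars_apply]
      generalize rho D m = q
      induction q using TensorProduct.induction_on with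
      | zero => simp only [map_zero, smul_zero, tmul_zero]
      | add x y hx hy =>
        simp only [map_add, smul_add, tmul_add]
        exact congrArg₂ (· + ·) hx hy
      | tmul t k =>
        rw [psi_tmul, smul_smul, eB_smul_one]
        show act R S (Nd D) B (((s ⊗ₜ[R] (1 : S)) ⊗ₜ[R] (1 : S)) * (((1 : S) ⊗ₜ[R] t) ⊗ₜ[R] (1 : S))) _ = _
        simp [α]
  have h2 : ∀ p : S ⊗[R] (Nd D), (eB D B (psi D a c hac p) : B ⊗[R] (Nd D)) =
      α (LinearMap.lTensor S ι p) := by
    intro p
    induction p using TensorProduct.induction_on with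
    | zero => simp only [map_zero]
    | add x y hx hy =>
      simp only [map_add]
      exact congrArg₂ (· + ·) hx hy
    | tmul s m =>
      rw [psi_tmul, eB_smul_one]
      show act R S (Nd D) B ((s ⊗ₜ[R] (1 : S)) ⊗ₜ[R] (1 : S)) _ = _
      simp [α, ι]
  exact α.injective ((h1 _).symm.trans ((congrArg (fun z => (eB D B z : B ⊗[R] (Nd D))) key).trans (h2 _)))

/-- The descended module. -/
noncomputable def M0 : ModuleCat.{u} R := ModuleCat.of R (fixed (rho D))

/-- The map `S ⊗ M ⟶ N`. -/
noncomputable def phi : (extendScalars (algebraMap R S)).obj (M0 D) ⟶ Nd D :=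
  ((extendRestrictScalarsAdj (algebraMap R S)).homEquiv _ _).symm (ModuleCat.ofHom
    (Y := (restrictScalars (algebraMap R S)).obj (Nd D))
    { toFun := fun m => (m.1 : Nd D)
      map_add' := fun _ _ => rfl
      map_smul' := fun _ _ => rfl })

theorem phi_one (m : M0 D) : phi D (one (algebraMap R S) _ m) = m.1 := by
  have h := extendRestrictScalarsAdj_homEquiv_apply (f := algebraMap R S) (phi D) m
  rw [phi, Equiv.apply_symm_apply] at h
  exact h.symm

theorem isIso_phi (hb : Function.Bijective (mult (S := S) (fixed (rho D)))) : IsIso (phi D) := by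
  rw [ConcreteCategory.isIso_iff_bijective]
  let f := algebraMap R S
  let jj : S ⊗[R] fixed (rho D) →+ ↑((extendScalars f).obj (M0 D)) :=
    TensorProduct.liftAddHom
      (AddMonoidHom.mk' (fun s => AddMonoidHom.mk' (fun m : fixed (rho D) => s • one f (M0 D) m)
          fun m n => by rw [← smul_add, ← one_add])
        fun s t => AddMonoidHom.ext fun m => by simp [add_smul])
      fun r s m => by
        show (r • s) • one f (M0 D) m = s • one f (M0 D) (r • m)
        rw [one_smul' f (M0 D), smul_smul, Algebra.smul_def, mul_comm]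
  have hsur : Function.Surjective jj := fun z => by
    induction z using induction_one with
    | h0 => exact ⟨0, map_zero _⟩
    | hadd x y hx hy =>
      obtain ⟨a, rfl⟩ := hx; obtain ⟨b, rfl⟩ := hy; exact ⟨a + b, map_add _ _ _⟩
    | h b m => exact ⟨b ⊗ₜ m, TensorProduct.liftAddHom_tmul _ _ _ _⟩
  have hcomp : ∀ z, phi D (jj z) = mult (S := S) (fixed (rho D)) z := fun z => by
    induction z using TensorProduct.induction_on with
    | zero => simp only [map_zero]
    | add x y hx hy => simp only [map_add, hx, hy]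
    | tmul s m =>
      rw [mult_tmul, show jj (s ⊗ₜ m) = s • one f (M0 D) m from TensorProduct.liftAddHom_tmul _ _ _ _,
        map_smul, phi_one]
  refine ⟨fun x y hxy => ?_, fun n => ?_⟩
  · obtain ⟨x, rfl⟩ := hsur x
    obtain ⟨y, rfl⟩ := hsur y
    exact congrArg jj (hb.1 (by rw [← hcomp, ← hcomp]; exact hxy))
  · obtain ⟨z, hz⟩ := hb.2 n
    exact ⟨jj z, (hcomp z).trans hz⟩

theorem effective_of (hb : Function.Bijective (mult (S := S) (fixed (rho D)))) :
    ∃ M : ModuleCat.{u} R, Nonempty ((Desc.ringModPF.{u}.toDescentData (cov R S)).obj M ≅ D) := by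
  have := isIso_phi D hb
  refine ⟨M0 D, ⟨DescentData.isoMk (fun _ => asIso (phi D)) ?_⟩⟩
  intro Y q i₁ i₂ f₁ f₂ hf₁ hf₂
  obtain ⟨A⟩ := Y
  obtain ⟨a, rfl⟩ : ∃ a : CommRingCat.of S ⟶ A, a.op = f₁ := ⟨f₁.unop, rfl⟩
  obtain ⟨b, rfl⟩ : ∃ b : CommRingCat.of S ⟶ A, b.op = f₂ := ⟨f₂.unop, rfl⟩
  subst hf₁
  have h : Agree (R := R) a b := (congrArg Quiver.Hom.unop hf₂).symm
  let f := CommRingCat.ofHom (algebraMap R S)
  show (extendScalars a.hom).map (phi D) ≫ hm D a b h =
    (mcInv f a (f ≫ a) rfl (M0 D) ≫ mc f b (f ≫ a) (by rw [show f ≫ a = f ≫ b from h]; rfl) (M0 D)) ≫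
      (extendScalars b.hom).map (phi D)
  refine ExtendScalars.hom_ext fun x => ?_
  change ((extendScalars a.hom).map (phi D) ≫ hm D a b h) (one a.hom _ x) =
    ((mcInv f a (f ≫ a) rfl (M0 D) ≫ mc f b (f ≫ a) _ (M0 D)) ≫ (extendScalars b.hom).map (phi D))
      (one a.hom _ x)
  simp only [CategoryTheory.comp_apply]
  induction x using induction_one with
  | h0 => simp only [one_zero, map_zero]
  | hadd y z hy hz => simp only [one_add, map_add, hy, hz]
  | h s m =>
    rw [one_smul']
    refine Eq.trans ?_ (congrArg (fun z => (extendScalars b.hom).map (phi D)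
      (mc f b (f ≫ a) (by rw [show f ≫ a = f ≫ b from h]; rfl) (M0 D) (mcInv f a (f ≫ a) rfl (M0 D) z)))
      (one_smul' a.hom ((extendScalars f.hom).obj (M0 D)) s (one f.hom (M0 D) m))).symm
    simp only [map_smul]
    congr 1
    have e1 : mcInv f a (f ≫ a) rfl (M0 D) (one a.hom _ (one f.hom (M0 D) m)) =
        one (f ≫ a).hom (M0 D) m := mcInv_one f a (f ≫ a) rfl (M0 D) m
    have hfb : f.op.op.toLoc ≫ b.op.op.toLoc = (f ≫ a).op.op.toLoc := by
      rw [show f ≫ a = f ≫ b from h]; rfl
    have e2 : mc f b (f ≫ a) hfb (M0 D) (one (f ≫ a).hom (M0 D) m) =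
        one b.hom _ (one f.hom (M0 D) m) := mapComp'_one f b (f ≫ a) hfb (M0 D) m
    have e3 : ∀ c : CommRingCat.of S ⟶ A, (extendScalars c.hom).map (phi D) (one c.hom _ (one f.hom (M0 D) m)) =
        one c.hom (Nd D) m.1 := fun c => (map_one' c.hom (phi D) _).trans (congrArg _ (phi_one D m))
    refine (congrArg (hm D a b h) (e3 a)).trans ?_
    refine Eq.trans ?_ (congrArg ((extendScalars b.hom).map (phi D))
      ((congrArg (mc f b (f ≫ a) hfb (M0 D)) e1).trans e2)).symm
    refine Eq.trans ?_ (e3 b).symm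
    show th D a b h m.1 = _
    rw [th_eq, (mem_fixed (rho D) m.1).1 m.2, psi_tmul, map_one, one_smul]

theorem effective [Module.Flat R S] :
    ∃ M : ModuleCat.{u} R, Nonempty ((Desc.ringModPF.{u}.toDescentData (cov R S)).obj M ≅ D) :=
  effective_of D (bijective_mult (rho D) (rho_counit D) (rho_coassoc D))

end Groth.Agent.ModDesc12
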